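import Cfsg.Agent.Lib.H10.NHN.Net
set_option autoImplicit false
set_option maxRecDepth 100000
set_option linter.all false
set_option Elab.async false
namespace H10.NHN
open H35.TC H35.Net
open H10.HNAlt (Lt)
theorem fix_chk_x : chkFixHi net [.x] 21 1539000 = true := by decide +kernel
theorem fix_chk_X : chkFixHi net [.X] 21 1539000 = true := by decide +kernel
theorem fix_chk_y : chkFixHi net [.y] 21 1539000 = true := by decide +kernel
theorem fix_chk_Y : chkFixHi net [.Y] 21 1539000 = true := by decide +kernel
theorem fix_chk_z : chkFixHi net [.z] 21 1539000 = true := by decide +kernel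
theorem fix_chk_t : chkFixHi net [.t] 21 1539000 = true := by decide +kernel
theorem fix_chk_T : chkFixHi net [.T] 21 1539000 = true := by decide +kernel
theorem fix_hi : ∀ x b, 1539000 ≤ b → π x b = b := by
  intro x
  cases x
  · exact fix_of_chk hbp fix_chk_x .x (by simp)
  · exact fix_of_chk hbp fix_chk_X .X (by simp)
  · exact fix_of_chk hbp fix_chk_y .y (by simp)
  · exact fix_of_chk hbp fix_chk_Y .Y (by simp)
  · exact fix_of_chk hbp fix_chk_z .z (by simp)
  · exact fix_of_chk hbp fix_chk_t .t (by simp)
  · exact fix_of_chk hbp fix_chk_T .T (by simp)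
end H10.NHN
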