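import Cfsg.Agent.Lib.H10.NHN.Net
set_option autoImplicit false
set_option maxRecDepth 100000
set_option linter.all false
set_option Elab.async false
namespace H10.NHN
open H35.TC H35.Net
open H10.HNAlt (Lt)
theorem pres_chk : chkPres net [.x, .X, .y, .Y, .z, .t, .T] 1539000 = true := by decide +kernel
theorem letters_all : ∀ x : Lt, x ∈ [Lt.x, Lt.X, Lt.y, Lt.Y, Lt.z, Lt.t, Lt.T] := by
  intro x; cases x <;> decide
theorem pres : ∀ x b, π x b < 1539000 ↔ b < 1539000 := fun x => pres_of_chk hbp pres_chk x (letters_all x)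
theorem trans_chk : chkTrans net [[.t], [.x], [.z], [.t], [.y], [.x], [.y], [.z], [.t], [.y], [.x], [.z], [.y], [.t], [.z], [.x], [.y], [.t], [.z], [.y], [.x], [.y], [.z], [.t], [.y], [.x], [.z], [.y], [.t], [.x], [.z], [.y], [.t], [.x], [.y], [.y], [.z], [.y]] 1 1539000 0 = true := by decide +kernel
theorem trans {Γ : Subgroup (Equiv.Perm ℕ)} (hΓ : ∀ x, π x ∈ Γ) : ∀ c, c < 1539000 → ∃ g ∈ Γ, g 0 = c := trans_of_chk hbp hΓ trans_chk
theorem subs_fix : chkFixF net [[.x], [.y], [.z]] [0] = true := by decide +kernel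
theorem subs_fix0 : ∀ w ∈ ([[.x], [.y], [.z]] : List (List Lt)), (w.map π).prod 0 = 0 := fun w hw => prod_fix hbp subs_fix w hw 0 (by simp)
end H10.NHN
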