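import Cfsg.Agent.Lib.H10.NHN.Net
set_option autoImplicit false
set_option maxRecDepth 100000
set_option linter.all false
set_option Elab.async false
namespace H10.NHN
open H35.TC H35.Net
open H10.HNAlt (Lt)
theorem r13_0 : chkW net 21 [.z, .t] 3 0 2 = true := by decide +kernel
theorem r13_1 : chkW net 21 [.z, .t] 3 2 2 = true := by decide +kernel
theorem r13_2 : chkW net 21 [.z, .t] 3 4 2 = true := by decide +kernel
theorem r13_3 : chkW net 21 [.z, .t] 3 6 2 = true := by decide +kernel
theorem r13_4 : chkW net 21 [.z, .t] 3 8 2 = true := by decide +kernel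
theorem r13_5 : chkW net 21 [.z, .t] 3 10 2 = true := by decide +kernel
theorem r13_6 : chkW net 21 [.z, .t] 3 12 2 = true := by decide +kernel
theorem r13_7 : chkW net 21 [.z, .t] 3 14 2 = true := by decide +kernel
theorem r13_8 : chkW net 21 [.z, .t] 3 16 2 = true := by decide +kernel
theorem r13_9 : chkW net 21 [.z, .t] 3 18 2 = true := by decide +kernel
theorem r13_10 : chkW net 21 [.z, .t] 3 20 1 = true := by decide +kernel
theorem r13 : ((([.z, .t] : List Lt).map π).prod) ^ 3 = 1 := by
  refine pow_eq_one hbp (k := 21) fun r hr => ?_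
  rcases Nat.lt_or_ge r 2 with h0 | h0
  · exact chkW_spec r13_0 r (by omega) (by omega)
  rcases Nat.lt_or_ge r 4 with h1 | h1
  · exact chkW_spec r13_1 r (by omega) (by omega)
  rcases Nat.lt_or_ge r 6 with h2 | h2
  · exact chkW_spec r13_2 r (by omega) (by omega)
  rcases Nat.lt_or_ge r 8 with h3 | h3
  · exact chkW_spec r13_3 r (by omega) (by omega)
  rcases Nat.lt_or_ge r 10 with h4 | h4
  · exact chkW_spec r13_4 r (by omega) (by omega)
  rcases Nat.lt_or_ge r 12 with h5 | h5
  · exact chkW_spec r13_5 r (by omega) (by omega)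
  rcases Nat.lt_or_ge r 14 with h6 | h6
  · exact chkW_spec r13_6 r (by omega) (by omega)
  rcases Nat.lt_or_ge r 16 with h7 | h7
  · exact chkW_spec r13_7 r (by omega) (by omega)
  rcases Nat.lt_or_ge r 18 with h8 | h8
  · exact chkW_spec r13_8 r (by omega) (by omega)
  rcases Nat.lt_or_ge r 20 with h9 | h9
  · exact chkW_spec r13_9 r (by omega) (by omega)
  exact chkW_spec r13_10 r (by omega) (by omega)
end H10.NHN
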