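import Cfsg.Agent.Lib.H10.NHN.Net
set_option autoImplicit false
set_option maxRecDepth 100000
set_option linter.all false
set_option Elab.async false
namespace H10.NHN
open H35.TC H35.Net
open H10.HNAlt (Lt)
theorem r15_0 : chkW net 21 [.y, .Y] 1 0 7 = true := by decide +kernel
theorem r15_1 : chkW net 21 [.y, .Y] 1 7 7 = true := by decide +kernel
theorem r15_2 : chkW net 21 [.y, .Y] 1 14 7 = true := by decide +kernel
theorem r15 : ((([.y, .Y] : List Lt).map π).prod) ^ 1 = 1 := by
  refine pow_eq_one hbp (k := 21) fun r hr => ?_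
  rcases Nat.lt_or_ge r 7 with h0 | h0
  · exact chkW_spec r15_0 r (by omega) (by omega)
  rcases Nat.lt_or_ge r 14 with h1 | h1
  · exact chkW_spec r15_1 r (by omega) (by omega)
  exact chkW_spec r15_2 r (by omega) (by omega)
end H10.NHN
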