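import Cfsg.Agent.Lib.H10.NHN.Net
set_option autoImplicit false
set_option maxRecDepth 100000
set_option linter.all false
set_option Elab.async false
namespace H10.NHN
open H35.TC H35.Net
open H10.HNAlt (Lt)
theorem r7_0 : chkW net 21 [.z, .x] 2 0 3 = true := by decide +kernel
theorem r7_1 : chkW net 21 [.z, .x] 2 3 3 = true := by decide +kernel
theorem r7_2 : chkW net 21 [.z, .x] 2 6 3 = true := by decide +kernel
theorem r7_3 : chkW net 21 [.z, .x] 2 9 3 = true := by decide +kernel
theorem r7_4 : chkW net 21 [.z, .x] 2 12 3 = true := by decide +kernel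
theorem r7_5 : chkW net 21 [.z, .x] 2 15 3 = true := by decide +kernel
theorem r7_6 : chkW net 21 [.z, .x] 2 18 3 = true := by decide +kernel
theorem r7 : ((([.z, .x] : List Lt).map π).prod) ^ 2 = 1 := by
  refine pow_eq_one hbp (k := 21) fun r hr => ?_
  rcases Nat.lt_or_ge r 3 with h0 | h0
  · exact chkW_spec r7_0 r (by omega) (by omega)
  rcases Nat.lt_or_ge r 6 with h1 | h1
  · exact chkW_spec r7_1 r (by omega) (by omega)
  rcases Nat.lt_or_ge r 9 with h2 | h2
  · exact chkW_spec r7_2 r (by omega) (by omega)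
  rcases Nat.lt_or_ge r 12 with h3 | h3
  · exact chkW_spec r7_3 r (by omega) (by omega)
  rcases Nat.lt_or_ge r 15 with h4 | h4
  · exact chkW_spec r7_4 r (by omega) (by omega)
  rcases Nat.lt_or_ge r 18 with h5 | h5
  · exact chkW_spec r7_5 r (by omega) (by omega)
  exact chkW_spec r7_6 r (by omega) (by omega)
end H10.NHN
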