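import Cfsg.Prelude.Def_Spor_HN
import Cfsg.Agent.Lib.H35.CoxGroup
import Cfsg.Agent.Lib.H10.NHN.R_r0
import Cfsg.Agent.Lib.H10.NHN.R_r1
import Cfsg.Agent.Lib.H10.NHN.R_r2
import Cfsg.Agent.Lib.H10.NHN.R_r3
import Cfsg.Agent.Lib.H10.NHN.R_r4
import Cfsg.Agent.Lib.H10.NHN.R_r5
import Cfsg.Agent.Lib.H10.NHN.R_r6
import Cfsg.Agent.Lib.H10.NHN.R_r7
import Cfsg.Agent.Lib.H10.NHN.R_r8
import Cfsg.Agent.Lib.H10.NHN.R_r9
import Cfsg.Agent.Lib.H10.NHN.R_r10
import Cfsg.Agent.Lib.H10.NHN.R_r11
import Cfsg.Agent.Lib.H10.NHN.R_r12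
import Cfsg.Agent.Lib.H10.NHN.R_r13
import Cfsg.Agent.Lib.H10.NHN.R_r14
import Cfsg.Agent.Lib.H10.NHN.R_r15
import Cfsg.Agent.Lib.H10.NHN.R_r16
import Cfsg.Agent.Lib.H10.NHN.Orb

/-!
# The action of the presented Harada–Norton group on 1539000 points
-/

set_option autoImplicit false
set_option maxRecDepth 100000

namespace H10.NHN

open H35.TC H35.Net Cfsg.Spor
open H10.HNAlt (Lt)

theorem pX : (π .x)⁻¹ = π .X := by
  have h := r14
  simp only [List.map_cons, List.map_nil, List.prod_cons, List.prod_nil, mul_one, pow_one] at h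
  exact inv_eq_of_mul_eq_one_right h

theorem pY : (π .y)⁻¹ = π .Y := by
  have h := r15
  simp only [List.map_cons, List.map_nil, List.prod_cons, List.prod_nil, mul_one, pow_one] at h
  exact inv_eq_of_mul_eq_one_right h

theorem pT : (π .t)⁻¹ = π .T := by
  have h := r16
  simp only [List.map_cons, List.map_nil, List.prod_cons, List.prod_nil, mul_one, pow_one] at h
  exact inv_eq_of_mul_eq_one_right h

theorem pz2 : π .z * π .z = 1 := by
  have h := r6
  simp only [List.map_cons, List.map_nil, List.prod_cons, List.prod_nil, mul_one, sq] at h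
  exact h

theorem pz : (π .z)⁻¹ = π .z := inv_eq_of_mul_eq_one_right pz2

/-- images of the generators -/
noncomputable def gf : HN.Gen → Equiv.Perm ℕ
  | .x => π .x
  | .y => π .y
  | .z => π .z
  | .t => π .t

theorem rel_ok : ∀ r ∈ coxRelators HN.edges ∪ {r | r ∈ HN.extra}, FreeGroup.lift gf r = 1 := by
  rintro r (⟨a, ha, _⟩ | hr)
  · simp [coxNodes, HN.edges] at ha
  · simp only [Set.mem_setOf_eq, HN.extra, List.mem_cons, List.mem_nil_iff, or_false] at hr
    rcases hr with rfl | rfl | rfl | rfl | rfl | rfl | rfl | rfl | rfl | rfl | rfl | rfl | rfl | rfl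
    · have h := r0
      simpa [gf] using h
    · have h := r1
      simpa [gf, pX, pY, pT, pz, mul_assoc, pow_succ] using h
    · have h := r2
      simpa [gf, pX, pY, pT, pz, mul_assoc, pow_succ] using h
    · have h := r3
      simpa [gf, pX, pY, pT, pz, mul_assoc, pow_succ] using h
    · have h := r4
      simpa [gf, pX, pY, pT, pz, mul_assoc, pow_succ] using h
    · have h := r5
      simpa [gf, pX, pY, pT, pz, mul_assoc, pow_succ] using h
    · have h := r6
      simpa [gf, pX, pY, pT, pz, mul_assoc, pow_succ] using h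
    · have h := r7
      simpa [gf, pX, pY, pT, pz, mul_assoc, pow_succ] using h
    · have h := r8
      simpa [gf, pX, pY, pT, pz, mul_assoc, pow_succ] using h
    · have h := r9
      simpa [gf, pX, pY, pT, pz, mul_assoc, pow_succ] using h
    · have h := r10
      simpa [gf, pX, pY, pT, pz, mul_assoc, pow_succ] using h
    · have h := r11
      simpa [gf, pX, pY, pT, pz, mul_assoc, pow_succ] using h
    · have h := r12
      simpa [gf, pX, pY, pT, pz, mul_assoc, pow_succ] using h
    · have h := r13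
      simpa [gf, pX, pY, pT, pz, mul_assoc, pow_succ] using h

/-- the action -/
noncomputable def ρ : HN →* Equiv.Perm ℕ := PresentedGroup.toGroup rel_ok

/-- images of the letters in `HN` -/
noncomputable def gP (a : HN.Gen) : HN := PresentedGroup.of a

theorem ρ_of (a : HN.Gen) : ρ (gP a) = gf a := PresentedGroup.toGroup.of rel_ok

/-- letters as elements of `HN` -/
noncomputable def lt (l : Lt) : HN := H10.HNAlt.lv (gP .x) (gP .y) (gP .z) (gP .t) l

theorem ρ_lt (l : Lt) : ρ (lt l) = π l := by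
  cases l
  · exact ρ_of .x
  · show ρ (gP .x)⁻¹ = _
    rw [map_inv, ρ_of]; exact pX
  · exact ρ_of .y
  · show ρ (gP .y)⁻¹ = _
    rw [map_inv, ρ_of]; exact pY
  · exact ρ_of .z
  · exact ρ_of .t
  · show ρ (gP .t)⁻¹ = _
    rw [map_inv, ρ_of]; exact pT

theorem ρ_word (w : List Lt) : ρ (H10.HNAlt.ev (gP .x) (gP .y) (gP .z) (gP .t) w) = (w.map π).prod := by
  unfold H10.HNAlt.ev
  rw [map_list_prod, List.map_map]
  congr 1
  apply List.map_congr_left
  intro l _
  exact ρ_lt l

theorem ρ_trans : ∀ c, c < 1539000 → ∃ g, ρ g 0 = c := by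
  intro c hc
  obtain ⟨g, hg, h⟩ := trans (Γ := ρ.range) (fun l => ⟨lt l, ρ_lt l⟩) c hc
  obtain ⟨a, rfl⟩ := hg
  exact ⟨a, h⟩

/-- the subgroup generated by the images of `x`, `y`, `z` -/
abbrev NW : Subgroup HN :=
  (Subgroup.closure ({HN.x, HN.y, HN.z} : Set (FreeGroup HN.Gen))).map
    (PresentedGroup.mk (coxRelators HN.edges ∪ {r | r ∈ HN.extra}))

theorem NW_eq : NW = Subgroup.closure {gP .x, gP .y, gP .z} := by
  show Subgroup.map _ _ = _
  rw [MonoidHom.map_closure]
  congr 1
  rw [Set.image_insert_eq, Set.image_insert_eq, Set.image_singleton]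
  rfl

theorem NW_fix : ∀ g ∈ NW, ρ g 0 = 0 := by
  rw [NW_eq]
  intro g hg
  have hx : ρ (gP .x) 0 = 0 := by
    have := subs_fix0 [.x] (by simp)
    rw [ρ_of]; simpa [gf] using this
  have hy : ρ (gP .y) 0 = 0 := by
    have := subs_fix0 [.y] (by simp)
    rw [ρ_of]; simpa [gf] using this
  have hz : ρ (gP .z) 0 = 0 := by
    have := subs_fix0 [.z] (by simp)
    rw [ρ_of]; simpa [gf] using this
  induction hg using Subgroup.closure_induction with
  | mem a ha =>
    rcases ha with rfl | rfl | rfl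
    · exact hx
    · exact hy
    · exact hz
  | one => rw [map_one]; rfl
  | mul a b _ _ iha ihb => rw [map_mul, Equiv.Perm.mul_apply, ihb, iha]
  | inv a _ iha => rw [map_inv, Equiv.Perm.inv_eq_iff_eq]; exact iha.symm

/-- the presented Harada–Norton group acts non-trivially -/
theorem ρ_ne : ρ ≠ 1 := by
  intro h
  obtain ⟨g, hg⟩ := ρ_trans 1 (by norm_num)
  rw [h] at hg
  have h1 : ((1 : HN →* Equiv.Perm ℕ) g) 0 = 0 := rfl
  rw [h1] at hg
  exact absurd hg (by norm_num)

/-- lower bound of the index: `H35.CoxGroup.index_eq` gives the index from an upper bound -/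
theorem index_of_ub (hub : NW.index ≤ 1539000 ∧ NW.index ≠ 0) : NW.index = 1539000 :=
  H35.Net.index_eq hub ρ NW_fix ρ_trans

end H10.NHN
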