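import Cfsg.Agent.Lib.H10.NHN.M_x0
import Cfsg.Agent.Lib.H10.NHN.M_x1
import Cfsg.Agent.Lib.H10.NHN.M_y0
import Cfsg.Agent.Lib.H10.NHN.M_y1
import Cfsg.Agent.Lib.H10.NHN.M_z0
import Cfsg.Agent.Lib.H10.NHN.M_z1
import Cfsg.Agent.Lib.H10.NHN.M_t0
import Cfsg.Agent.Lib.H10.NHN.M_t1
import Cfsg.Agent.Lib.H10.HNAlt2
import Cfsg.Agent.Lib.H35.SegKit
set_option autoImplicit false
set_option maxRecDepth 100000
set_option linter.all false
set_option Elab.async false
namespace H10.NHN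
open H35.TC H35.Net
open H10.HNAlt (Lt)
/-- network -/
noncomputable def nl_x : List (ℕ × ℕ) := [(nat_lit 1048576, m_x_0), (nat_lit 524288, m_x_1), (nat_lit 262144, m_x_2), (nat_lit 131072, m_x_3), (nat_lit 65536, m_x_4), (nat_lit 32768, m_x_5), (nat_lit 16384, m_x_6), (nat_lit 8192, m_x_7), (nat_lit 4096, m_x_8), (nat_lit 2048, m_x_9), (nat_lit 1024, m_x_10), (nat_lit 512, m_x_11), (nat_lit 256, m_x_12), (nat_lit 128, m_x_13), (nat_lit 64, m_x_14), (nat_lit 32, m_x_15), (nat_lit 16, m_x_16), (nat_lit 8, m_x_17), (nat_lit 4, m_x_18), (nat_lit 2, m_x_19), (nat_lit 1, m_x_20), (nat_lit 2, m_x_21), (nat_lit 4, m_x_22), (nat_lit 8, m_x_23), (nat_lit 16, m_x_24), (nat_lit 32, m_x_25), (nat_lit 64, m_x_26), (nat_lit 128, m_x_27), (nat_lit 256, m_x_28), (nat_lit 512, m_x_29), (nat_lit 1024, m_x_30), (nat_lit 2048, m_x_31), (nat_lit 4096, m_x_32), (nat_lit 8192, m_x_33), (nat_lit 16384, m_x_34), (nat_lit 32768, m_x_35),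 (nat_lit 65536, m_x_36), (nat_lit 131072, m_x_37), (nat_lit 262144, m_x_38), (nat_lit 524288, m_x_39), (nat_lit 1048576, m_x_40)]
/-- network -/
noncomputable def nl_X : List (ℕ × ℕ) := [(nat_lit 1048576, m_x_40), (nat_lit 524288, m_x_39), (nat_lit 262144, m_x_38), (nat_lit 131072, m_x_37), (nat_lit 65536, m_x_36), (nat_lit 32768, m_x_35), (nat_lit 16384, m_x_34), (nat_lit 8192, m_x_33), (nat_lit 4096, m_x_32), (nat_lit 2048, m_x_31), (nat_lit 1024, m_x_30), (nat_lit 512, m_x_29), (nat_lit 256, m_x_28), (nat_lit 128, m_x_27), (nat_lit 64, m_x_26), (nat_lit 32, m_x_25), (nat_lit 16, m_x_24), (nat_lit 8, m_x_23), (nat_lit 4, m_x_22), (nat_lit 2, m_x_21), (nat_lit 1, m_x_20), (nat_lit 2, m_x_19), (nat_lit 4, m_x_18), (nat_lit 8, m_x_17), (nat_lit 16, m_x_16), (nat_lit 32, m_x_15), (nat_lit 64, m_x_14), (nat_lit 128, m_x_13), (nat_lit 256, m_x_12), (nat_lit 512, m_x_11), (nat_lit 1024, m_x_10), (nat_lit 2048, m_x_9),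 (nat_lit 4096, m_x_8), (nat_lit 8192, m_x_7), (nat_lit 16384, m_x_6), (nat_lit 32768, m_x_5), (nat_lit 65536, m_x_4), (nat_lit 131072, m_x_3), (nat_lit 262144, m_x_2), (nat_lit 524288, m_x_1), (nat_lit 1048576, m_x_0)]
/-- network -/
noncomputable def nl_y : List (ℕ × ℕ) := [(nat_lit 1048576, m_y_0), (nat_lit 524288, m_y_1), (nat_lit 262144, m_y_2), (nat_lit 131072, m_y_3), (nat_lit 65536, m_y_4), (nat_lit 32768, m_y_5), (nat_lit 16384, m_y_6), (nat_lit 8192, m_y_7), (nat_lit 4096, m_y_8), (nat_lit 2048, m_y_9), (nat_lit 1024, m_y_10), (nat_lit 512, m_y_11), (nat_lit 256, m_y_12), (nat_lit 128, m_y_13), (nat_lit 64, m_y_14), (nat_lit 32, m_y_15), (nat_lit 16, m_y_16), (nat_lit 8, m_y_17), (nat_lit 4, m_y_18), (nat_lit 2, m_y_19), (nat_lit 1, m_y_20), (nat_lit 2, m_y_21), (nat_lit 4, m_y_22), (nat_lit 8, m_y_23), (nat_lit 16, m_y_24), (nat_lit 32, m_y_25), (nat_lit 64, m_y_26), (nat_lit 128, m_y_27), (nat_lit 256,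 m_y_28), (nat_lit 512, m_y_29), (nat_lit 1024, m_y_30), (nat_lit 2048, m_y_31), (nat_lit 4096, m_y_32), (nat_lit 8192, m_y_33), (nat_lit 16384, m_y_34), (nat_lit 32768, m_y_35), (nat_lit 65536, m_y_36), (nat_lit 131072, m_y_37), (nat_lit 262144, m_y_38), (nat_lit 524288, m_y_39), (nat_lit 1048576, m_y_40)]
/-- network -/
noncomputable def nl_Y : List (ℕ × ℕ) := [(nat_lit 1048576, m_y_40), (nat_lit 524288, m_y_39), (nat_lit 262144, m_y_38), (nat_lit 131072, m_y_37), (nat_lit 65536, m_y_36), (nat_lit 32768, m_y_35), (nat_lit 16384, m_y_34), (nat_lit 8192, m_y_33), (nat_lit 4096, m_y_32), (nat_lit 2048, m_y_31), (nat_lit 1024, m_y_30), (nat_lit 512, m_y_29), (nat_lit 256, m_y_28), (nat_lit 128, m_y_27), (nat_lit 64, m_y_26), (nat_lit 32, m_y_25), (nat_lit 16, m_y_24), (nat_lit 8, m_y_23), (nat_lit 4, m_y_22), (nat_lit 2, m_y_21), (nat_lit 1, m_y_20), (nat_lit 2, m_y_19), (nat_lit 4, m_y_18), (nat_lit 8, m_y_17),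 (nat_lit 16, m_y_16), (nat_lit 32, m_y_15), (nat_lit 64, m_y_14), (nat_lit 128, m_y_13), (nat_lit 256, m_y_12), (nat_lit 512, m_y_11), (nat_lit 1024, m_y_10), (nat_lit 2048, m_y_9), (nat_lit 4096, m_y_8), (nat_lit 8192, m_y_7), (nat_lit 16384, m_y_6), (nat_lit 32768, m_y_5), (nat_lit 65536, m_y_4), (nat_lit 131072, m_y_3), (nat_lit 262144, m_y_2), (nat_lit 524288, m_y_1), (nat_lit 1048576, m_y_0)]
/-- network -/
noncomputable def nl_z : List (ℕ × ℕ) := [(nat_lit 1048576, m_z_0), (nat_lit 524288, m_z_1), (nat_lit 262144, m_z_2), (nat_lit 131072, m_z_3), (nat_lit 65536, m_z_4), (nat_lit 32768, m_z_5), (nat_lit 16384, m_z_6), (nat_lit 8192, m_z_7), (nat_lit 4096, m_z_8), (nat_lit 2048, m_z_9), (nat_lit 1024, m_z_10), (nat_lit 512, m_z_11), (nat_lit 256, m_z_12), (nat_lit 128, m_z_13), (nat_lit 64, m_z_14), (nat_lit 32, m_z_15), (nat_lit 16, m_z_16), (nat_lit 8, m_z_17), (nat_lit 4, m_z_18), (nat_lit 2, m_z_19), (nat_lit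 1, m_z_20), (nat_lit 2, m_z_21), (nat_lit 4, m_z_22), (nat_lit 8, m_z_23), (nat_lit 16, m_z_24), (nat_lit 32, m_z_25), (nat_lit 64, m_z_26), (nat_lit 128, m_z_27), (nat_lit 256, m_z_28), (nat_lit 512, m_z_29), (nat_lit 1024, m_z_30), (nat_lit 2048, m_z_31), (nat_lit 4096, m_z_32), (nat_lit 8192, m_z_33), (nat_lit 16384, m_z_34), (nat_lit 32768, m_z_35), (nat_lit 65536, m_z_36), (nat_lit 131072, m_z_37), (nat_lit 262144, m_z_38), (nat_lit 524288, m_z_39), (nat_lit 1048576, m_z_40)]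
/-- network -/
noncomputable def nl_t : List (ℕ × ℕ) := [(nat_lit 1048576, m_t_0), (nat_lit 524288, m_t_1), (nat_lit 262144, m_t_2), (nat_lit 131072, m_t_3), (nat_lit 65536, m_t_4), (nat_lit 32768, m_t_5), (nat_lit 16384, m_t_6), (nat_lit 8192, m_t_7), (nat_lit 4096, m_t_8), (nat_lit 2048, m_t_9), (nat_lit 1024, m_t_10), (nat_lit 512, m_t_11), (nat_lit 256, m_t_12), (nat_lit 128, m_t_13), (nat_lit 64, m_t_14), (nat_lit 32, m_t_15), (nat_lit 16, m_t_16), (nat_lit 8, m_t_17), (nat_lit 4, m_t_18), (nat_lit 2, m_t_19), (nat_lit 1, m_t_20), (nat_lit 2, m_t_21), (nat_lit 4, m_t_22), (nat_lit 8, m_t_23), (nat_lit 16, m_t_24), (nat_lit 32, m_t_25), (nat_lit 64, m_t_26), (nat_lit 128, m_t_27), (nat_lit 256, m_t_28), (nat_lit 512, m_t_29), (nat_lit 1024, m_t_30), (nat_lit 2048, m_t_31), (nat_lit 4096, m_t_32), (nat_lit 8192, m_t_33), (nat_lit 16384, m_t_34), (nat_lit 32768, m_t_35), (nat_lit 65536, m_t_36), (nat_lit 131072,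 m_t_37), (nat_lit 262144, m_t_38), (nat_lit 524288, m_t_39), (nat_lit 1048576, m_t_40)]
/-- network -/
noncomputable def nl_T : List (ℕ × ℕ) := [(nat_lit 1048576, m_t_40), (nat_lit 524288, m_t_39), (nat_lit 262144, m_t_38), (nat_lit 131072, m_t_37), (nat_lit 65536, m_t_36), (nat_lit 32768, m_t_35), (nat_lit 16384, m_t_34), (nat_lit 8192, m_t_33), (nat_lit 4096, m_t_32), (nat_lit 2048, m_t_31), (nat_lit 1024, m_t_30), (nat_lit 512, m_t_29), (nat_lit 256, m_t_28), (nat_lit 128, m_t_27), (nat_lit 64, m_t_26), (nat_lit 32, m_t_25), (nat_lit 16, m_t_24), (nat_lit 8, m_t_23), (nat_lit 4, m_t_22), (nat_lit 2, m_t_21), (nat_lit 1, m_t_20), (nat_lit 2, m_t_19), (nat_lit 4, m_t_18), (nat_lit 8, m_t_17), (nat_lit 16, m_t_16), (nat_lit 32, m_t_15), (nat_lit 64, m_t_14), (nat_lit 128, m_t_13), (nat_lit 256, m_t_12), (nat_lit 512, m_t_11), (nat_lit 1024, m_t_10), (nat_lit 2048, m_t_9), (nat_lit 4096, m_t_8), (nat_lit 8192,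 m_t_7), (nat_lit 16384, m_t_6), (nat_lit 32768, m_t_5), (nat_lit 65536, m_t_4), (nat_lit 131072, m_t_3), (nat_lit 262144, m_t_2), (nat_lit 524288, m_t_1), (nat_lit 1048576, m_t_0)]
/-- network of a letter -/
noncomputable def net : Lt → ℕ → ℕ
  | .x => runNet nl_x
  | .X => runNet nl_X
  | .y => runNet nl_y
  | .Y => runNet nl_Y
  | .z => runNet nl_z
  | .t => runNet nl_t
  | .T => runNet nl_T
theorem ck_x : chkNet 2097152 nl_x = true := by decide +kernel
theorem ck_X : chkNet 2097152 nl_X = true := by decide +kernel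
theorem ck_y : chkNet 2097152 nl_y = true := by decide +kernel
theorem ck_Y : chkNet 2097152 nl_Y = true := by decide +kernel
theorem ck_z : chkNet 2097152 nl_z = true := by decide +kernel
theorem ck_t : chkNet 2097152 nl_t = true := by decide +kernel
theorem ck_T : chkNet 2097152 nl_T = true := by decide +kernel
theorem bp : ∀ x, ∃ π : Equiv.Perm ℕ, BP (2 ^ 21) (net x) π := by
  have e : (2 : ℕ) ^ 21 = 2097152 := by norm_num
  rw [e]
  intro x
  cases x
  · exact runNet_BP ck_x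
  · exact runNet_BP ck_X
  · exact runNet_BP ck_y
  · exact runNet_BP ck_Y
  · exact runNet_BP ck_z
  · exact runNet_BP ck_t
  · exact runNet_BP ck_T
/-- the permutation of a letter -/
noncomputable def π (x : Lt) : Equiv.Perm ℕ := (bp x).choose
theorem hbp : ∀ x, BP (2 ^ 21) (net x) (π x) := fun x => (bp x).choose_spec
end H10.NHN
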